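import Cfsg.Agent.H553.KKL.E7Act
import Cfsg.Agent.H798.KKL.Four
import Cfsg.Agent.H798.KKL.E7Tor
import Cfsg.Agent.H613.KKL.Defs

/-!
# S4546, `E₇(q)`, part 1: the involutions of `D` are classical (helper553)
-/

set_option autoImplicit false
set_option linter.unusedSectionVars false

namespace Cfsg.Agent.H553.KKL

open CoxeterSystem Cfsg Cfsg.Lie Cfsg.Lie.ChevalleyDatum
open Cfsg.Agent.ChevalleyStructure Cfsg.Agent.ChevalleyStructure.Elts Cfsg.Agent.ChevalleyStructure.CoxeterGeom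
  Cfsg.Agent.ChevalleyStructure.CoxeterGeomTypes Cfsg.Agent.ChevalleyStructure.NPerm
open Cfsg.Agent.Tits.Roots Cfsg.Agent.Nodes.BNOf Cfsg.Agent.Nodes.RGDChev Cfsg.Agent.Nodes.Reps
open Cfsg.Agent.KFacts.RgdChevCoord (TT XX)
open Cfsg.Agent.H167.EX Cfsg.Agent.H512.LinFour.IdealF Cfsg.Agent.H971.RV
open Cfsg.Agent.H557.LrSgn Cfsg.Agent.H557.LrOrb Cfsg.Agent.H557.LrNF Cfsg.Agent.H557.LrFam Cfsg.Agent.H557.LrData
open Cfsg.Agent.H974.Exc (th7 sym_E7 J_E7 fix_of_id wJ_E7)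
open Cfsg.Agent.UGT.U2.FOne
open Cfsg.Agent.GenExc.Chev (zS)
open Cfsg.Agent.H613.KKL
open Module

variable {K : Type} [Field K] [Fintype K]

/-- the `(-1)`-eigenspaces of conjugate elements -/
theorem dim_conj {D : ChevalleyDatum} {k : Type*} [Field k] (g t : ↥(D.group k)) :
    finrank k ↥(LinearMap.ker (rho D k (g * t * g⁻¹) + 1)) = finrank k ↥(LinearMap.ker (rho D k t + 1)) := by
  refine le_antisymm ker_conj_le ?_
  have h1 := ker_conj_le (D := D) (k := k) (x := g * t * g⁻¹) (g := g⁻¹)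
  have h2 : g⁻¹ * (g * t * g⁻¹) * g⁻¹⁻¹ = t := by group
  rwa [h2] at h1

/-- **the involutions of `E₇(q)` whose `(-1)`-eigenspace has dimension divisible by `4` are classical** -/
theorem conj_of_four (ho : Odd (Fintype.card K)) {t : ↥(chevE7.group K)} (htt : t * t = 1) (h1 : t ≠ 1)
    (h4 : 4 ∣ finrank K ↥(LinearMap.ker (rho chevE7 K t + 1))) : IsConj (zS isType_E7 K [0]) t := by
  obtain ⟨p, hpp, hpc, hp2⟩ := exists_char K ho
  have : Fact p.Prime := ⟨hpp⟩
  have hp2' : p ≠ 2 := by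
    rintro rfl
    exact (by decide : ¬ Odd 2) hp2
  have h2 := (Cfsg.Agent.H557.LrIso.odd_card (F := K) hp2).2
  have hS : IsSimpleGroup ↥(Lie.chevE7.group K) ∧ ¬ IsMulCommutative ↥(Lie.chevE7.group K) := S1054.result _ (by simp)
  have hs := hS.1
  have hZ := center_eq_bot hS
  obtain ⟨cs, hcs⟩ : ∃ cs, cs = (CoxeterMatrix.E₇).toCoxeterSystem := ⟨_, rfl⟩
  have hW : Finite (CoxeterMatrix.E₇).Group := finite_W isType_E7 cs
  have R := rgd (K := K) isType_E7 cs p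
  have hG := G1_eq_top (K := K) isType_E7 cs
  have hGG := KFacts.RgdRigid.GG_eq_top (T := TT chevE7 K) hG
  obtain ⟨k, φ, σ, J, g, N⟩ := exists_nf_inner hp2' R hG hZ htt h1
  have hσ : ∀ i, σ i = i := by
    intro i
    exact sym_E7 ⟨σ, σ, N.σσ, N.σσ⟩ (fun i j => FFour.sigma_matrix N.φ_simple i j) i
  have htt' : k⁻¹ * t * k * (k⁻¹ * t * k) = 1 := by
    have : k⁻¹ * t * k * (k⁻¹ * t * k) = k⁻¹ * (t * t) * k := by group
    rw [this, htt, mul_one, inv_mul_cancel]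
  have h1' : k⁻¹ * t * k ≠ 1 := by
    intro h
    apply h1
    have : t = k * (k⁻¹ * t * k) * k⁻¹ := by group
    rw [this, h, mul_one, mul_inv_cancel]
  have hcj : IsConj (k⁻¹ * t * k) t := isConj_iff.2 ⟨k, by group⟩
  have hd : finrank K ↥(LinearMap.ker (rho chevE7 K (k⁻¹ * t * k) + 1)) =
      finrank K ↥(LinearMap.ker (rho chevE7 K t + 1)) := by
    have := dim_conj (D := chevE7) (k := K) k⁻¹ t
    rwa [inv_inv] at this
  rw [← hd] at h4
  rcases J_E7 N hσ with hJ | hJ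
  · have hT : k⁻¹ * t * k ∈ TT chevE7 K := mem_T_of R hGG fun c hc => fix_of_id N.nx hσ hJ hc
    refine IsConj.trans ?_ hcj
    refine Cfsg.Agent.H798.KKL.toral_class cs p hp2 (fun t => finrank K ↥(LinearMap.ker (rho chevE7 K t + 1)))
      (fun g t => dim_conj g t) (fun t m ht => ?_) hT htt' h1' h4
    have e1 : SgnEl cs isType_E7.isCartan (TT chevE7 K) (XX chevE7 7 K) 0 (t * t) := by
      have e2 := Cfsg.Agent.H557.LrNF.SgnEl.mul ht ht
      have e3 : bits 7 m + bits 7 m = 0 := AddMonoidHom.ext fun x => add_self_zmod2 _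
      rwa [e3] at e2
    exact dim_sgn slacE7 isType_E7 cs twoE7 h2 (SgnEl.unique hG hZ e1 Cfsg.Agent.H557.LrNF.SgnEl.one) ht
  · have hw := wJ_E7 cs N.Jcomm hJ
    have h5 := dim_nontoral (k := K) (t := k⁻¹ * t * k) h2 cs htt' hw fun c hc => by
      have h6 := N.nx.xX_id hσ hc
      exact h6
    omega

/-- **part 1**: all involutions of `D` are classical -/
theorem seven_classical (ho : Odd (Fintype.card K)) {D : Subgroup ↥(chevE7.group K)} (h : E8 D)
    {y : ↥(chevE7.group K)} (hy : Seven D y) : ∀ d ∈ D, d ≠ 1 → IsConj (zS isType_E7 K [0]) d := by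
  intro d hd h1
  obtain ⟨p, hpp, hpc, hp2⟩ := exists_char K ho
  have h2 := (Cfsg.Agent.H557.LrIso.odd_card (F := K) hp2).2
  exact conj_of_four ho (h.inv d hd) h1 (H798.KKL.four_dvd h hy h2 (rho chevE7 K) d hd h1)

end Cfsg.Agent.H553.KKL
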