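import Cfsg.Agent.H553.KKL.AdjAct

/-!
# S4546: the dimension of the `(-1)`-eigenspace of a signed permutation of the root vectors (helper553)
-/

set_option autoImplicit false
set_option linter.unusedSectionVars false

namespace Cfsg.Agent.H553.KKL

open CoxeterSystem Cfsg Cfsg.Lie Cfsg.Lie.ChevalleyDatum
open Cfsg.Agent.ChevalleyStructure Cfsg.Agent.ChevalleyStructure.Elts Cfsg.Agent.ChevalleyStructure.CoxeterGeom
  Cfsg.Agent.ChevalleyStructure.CoxeterGeomTypes Cfsg.Agent.ChevalleyStructure.NPerm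
open Cfsg.Agent.ChevalleyStructure.LieAbs Cfsg.Agent.ChevalleyStructure.Ring Cfsg.Agent.ChevalleyStructure.JacMain
  Cfsg.Agent.ChevalleyStructure.LieAut Cfsg.Agent.ChevalleyStructure.JacAll Cfsg.Agent.ChevalleyStructure.Columns
  Cfsg.Agent.ChevalleyStructure.Additive
open Cfsg.Agent.Tits.Roots Cfsg.Agent.Nodes.BNOf Cfsg.Agent.Nodes.RGDChev
open Cfsg.Agent.H167.EX Cfsg.Agent.H512.LinFour.IdealF Cfsg.Agent.H971.RV
open Module Matrix

universe u

/-! ### linear algebra -/

/-- the dimension of the `(-1)`-eigenspace from a set of free coordinates -/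
theorem finrank_ker_eq {k : Type*} [Field k] {ι : Type*} [Fintype ι] (f : End k (ι → k)) (T : Finset ι)
    (h1 : ∀ v, f v = -v → (∀ s ∈ T, v s = 0) → v = 0)
    (h2 : ∀ s ∈ T, ∃ v, f v = -v ∧ v s = 1 ∧ ∀ s' ∈ T, s' ≠ s → v s' = 0) :
    finrank k ↥(LinearMap.ker (f + 1)) = T.card := by
  classical
  have hmem : ∀ v, v ∈ LinearMap.ker (f + 1) ↔ f v = -v := by
    intro v
    rw [LinearMap.mem_ker, LinearMap.add_apply, Module.End.one_apply, add_eq_zero_iff_eq_neg]
  let Φ : ↥(LinearMap.ker (f + 1)) →ₗ[k] (↥T → k) :=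
    { toFun := fun v s => v.1 s.1
      map_add' := fun v w => rfl
      map_smul' := fun a v => rfl }
  have hinj : Function.Injective Φ := by
    rw [injective_iff_map_eq_zero]
    intro v hv
    apply Subtype.ext
    exact h1 v.1 ((hmem _).1 v.2) fun s hs => congrFun hv ⟨s, hs⟩
  have hsurj : Function.Surjective Φ := by
    choose! w hw using h2
    intro x
    refine ⟨∑ s : ↥T, x s • (⟨w s.1, (hmem _).2 (hw s.1 s.2).1⟩ : ↥(LinearMap.ker (f + 1))), ?_⟩
    rw [map_sum]
    ext t
    rw [Finset.sum_apply, Finset.sum_eq_single t]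
    · rw [map_smul, Pi.smul_apply, smul_eq_mul]
      show x t * w t.1 t.1 = x t
      rw [(hw t.1 t.2).2.1, mul_one]
    · intro s _ hs
      rw [map_smul, Pi.smul_apply, smul_eq_mul]
      show x s * w s.1 t.1 = 0
      rw [(hw s.1 s.2).2.2 t.1 t.2 (fun h => hs (Subtype.ext h.symm)), mul_zero]
    · intro h
      exact absurd (Finset.mem_univ _) h
  rw [(LinearEquiv.ofBijective Φ ⟨hinj, hsurj⟩).finrank_eq, Module.finrank_fintype_fun_eq_card, Fintype.card_coe]

/-! ### root vectors -/

variable {D : ChevalleyDatum} {k : Type u} [Field k]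

/-- the basis vector `e_r` -/
def ex (D : ChevalleyDatum) (k : Type u) [Field k] (r : ℕ) : D.Idx → k
  | Sum.inl _ => 0
  | Sum.inr u => if u.val = r then 1 else 0

/-- the coroot `h_r` -/
def hv (D : ChevalleyDatum) (k : Type u) [Field k] (r : ℕ) : D.Idx → k
  | Sum.inl i => ((cor D r i.val : ℤ) : k)
  | Sum.inr _ => 0

theorem ev_eq {r : ℕ} (hr : r < D.nroots) : ev k hr = ex D k r := by
  ext j
  rcases j with i | u
  · rw [ev, Pi.single_eq_of_ne (by simp)]; rfl
  · rw [ev]
    by_cases h : u.val = r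
    · have : u = ⟨r, hr⟩ := Fin.ext h
      subst this
      rw [Pi.single_eq_same]
      simp [ex]
    · rw [Pi.single_eq_of_ne]
      · simp [ex, h]
      · intro h'
        exact h (congrArg Fin.val (Sum.inr.inj h'))

theorem ex_ne_zero {r : ℕ} (hr : r < D.nroots) : ex D k r ≠ 0 := by
  intro h
  have h1 := congrFun h (Sum.inr ⟨r, hr⟩)
  simp [ex] at h1

theorem adv_ex {r : ℕ} (hr : r < D.nroots) : adv (adR D k) (ex D k r) = adK D k r := by
  rw [← ev_eq hr, ev, adv_single_one]; rfl

theorem mulVec_ex (A : Matrix D.Idx D.Idx k) {r : ℕ} (hr : r < D.nroots) (j : D.Idx) :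
    (A *ᵥ ex D k r) j = A j (Sum.inr ⟨r, hr⟩) := by
  rw [← ev_eq hr, ev, Matrix.mulVec_single_one]; rfl

theorem adK_apply (r : ℕ) (i j : D.Idx) : adK D k r i j = ((coefE D r 1 i j : ℤ) : k) := rfl

variable (S : SLac D)

include S in
theorem br_neg {r : ℕ} (hr : r < D.nroots) : br D k (ex D k r) (ex D k (D.neg r)) = hv D k r := by
  obtain ⟨hn, hne, -⟩ := S.neg r hr
  ext j
  rw [br, adv_ex hr, mulVec_ex _ hn, adK_apply, coefE_entry D r 1 hr]
  have h1 : D.negIdx.getD r 0 = D.neg r := rfl
  rcases j with i | u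
  · simp only [h1]
    rw [if_neg hne, if_pos trivial, if_pos trivial]
    rfl
  · simp only [h1]
    rw [if_neg hne, if_pos trivial]
    show _ = (0 : k)
    split_ifs <;> simp_all

theorem br_cartan {r : ℕ} (hr : r < D.nroots) (v : D.Idx → k) (hv : ∀ u, v (Sum.inr u) = 0) :
    br D k (ex D k r) v = (-∑ i : Fin D.rank, v (Sum.inl i) * ((car D i.val r : ℤ) : k)) • ex D k r := by
  ext j
  rw [br, adv_ex hr, Matrix.mulVec, dotProduct, Fintype.sum_sum_type]
  have h1 : ∑ u : Fin D.nroots, adK D k r j (Sum.inr u) * v (Sum.inr u) = 0 :=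
    Finset.sum_eq_zero fun u _ => by rw [hv, mul_zero]
  rw [h1, add_zero, Pi.smul_apply, smul_eq_mul, neg_mul, Finset.sum_mul, ← Finset.sum_neg_distrib]
  refine Finset.sum_congr rfl fun i _ => ?_
  rw [adK_apply, coefE_entry D r 1 hr]
  rcases j with i' | u
  · simp [ex]
  · by_cases h : u.val = r
    · simp only [h, and_self, if_true]
      rw [← car_def]
      simp [ex, h]
      ring
    · simp [ex, h]

/-- the table fact `⟨r, h_r⟩ = 2` -/
def Two (D : ChevalleyDatum) : Prop := ∀ r < D.nroots, ∑ i : Fin D.rank, cor D r i.val * car D i.val r = 2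

theorem twoE7 : Two chevE7 := by
  unfold Two
  decide +kernel

theorem br_hv (hT : Two D) {r : ℕ} (hr : r < D.nroots) :
    br D k (ex D k r) (hv D k r) = (-2 : k) • ex D k r := by
  rw [br_cartan hr _ fun u => rfl]
  congr 2
  have h1 := congrArg (fun z : ℤ => (z : k)) (hT r hr)
  simp only [Int.cast_sum, Int.cast_mul] at h1
  rw [← Int.cast_ofNat (R := k) 2, ← h1]
  rfl

theorem br_root {r s u : ℕ} (hr : r < D.nroots) (hs : s < D.nroots) (hsr : s ≠ r) (hsn : s ≠ D.neg r) (c : ℤ)
    (hc : ∀ u' < D.nroots, ((D.chainCoeff r s u').map fun km : ℕ × ℤ => if km.1 = 1 then km.2 else 0).sum =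
      if u' = u then c else 0) : br D k (ex D k r) (ex D k s) = (c : k) • ex D k u := by
  have h1 : D.negIdx.getD r 0 = D.neg r := rfl
  ext j
  rw [br, adv_ex hr, mulVec_ex _ hs, adK_apply, coefE_entry D r 1 hr]
  rcases j with i | v
  · simp only [h1]
    rw [if_neg hsr, if_neg hsn]
    simp [ex]
  · simp only [h1]
    rw [if_neg hsr, if_neg hsn, hc v.val v.2, if_neg (by simp), zero_add]
    by_cases h : v.val = u
    · simp [ex, h]
    · simp [ex, h]

section Action

variable {g : ↥(D.group k)}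

theorem rho_inj (g : ↥(D.group k)) {v : D.Idx → k} (h : rho D k g v = 0) : v = 0 := by
  have h1 : (rho D k g⁻¹ * rho D k g) v = 0 := by
    rw [Module.End.mul_apply, h, map_zero]
  rwa [← map_mul, inv_mul_cancel, map_one, Module.End.one_apply] at h1

include S in
/-- **coroots** -/
theorem act_cartan (hT : Two D) (h2 : (2 : k) ≠ 0) {r s : ℕ} (hr : r < D.nroots) (hs : s < D.nroots) {a b : k}
    (ha : rho D k g (ex D k r) = a • ex D k s) (hb : rho D k g (ex D k (D.neg r)) = b • ex D k (D.neg s)) :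
    a * b = 1 ∧ rho D k g (hv D k r) = hv D k s := by
  have h1 : rho D k g (hv D k r) = (a * b) • hv D k s := by
    rw [← br_neg S hr, ← br_neg S hs, rho_br S.inList, ha, hb, br_smul_left, br_smul_right, smul_smul]
  have ha0 : a ≠ 0 := by
    intro h0
    rw [h0, zero_smul] at ha
    exact ex_ne_zero hr (rho_inj g ha)
  have h3 := congrArg (rho D k g) (br_hv (k := k) hT hr)
  rw [rho_br S.inList, ha, h1, br_smul_left, br_smul_right, br_hv hT hs, map_smul, ha, smul_smul, smul_smul,
    smul_smul] at h3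
  have h4 := congrFun h3 (Sum.inr ⟨s, hs⟩)
  simp only [Pi.smul_apply, ex, if_true, smul_eq_mul, mul_one] at h4
  have h5 : a * b = 1 := by
    have h6 : (2 * a) * (a * b - 1) = 0 := by linear_combination -h4
    rcases mul_eq_zero.1 h6 with h7 | h7
    · exact absurd h7 (mul_ne_zero h2 ha0)
    · exact sub_eq_zero.1 h7
  exact ⟨h5, by rw [h1, h5, one_smul]⟩

end Action

/-- `g` permutes the root vectors up to scalars -/
structure Act (g : ↥(D.group k)) (σ : ℕ → ℕ) (c : ℕ → k) : Prop where
  lt : ∀ r < D.nroots, σ r < D.nroots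
  inv : ∀ r < D.nroots, σ (σ r) = r
  root : ∀ r < D.nroots, rho D k g (ex D k r) = c r • ex D k (σ r)
  cc : ∀ r < D.nroots, c r * c (σ r) = 1
  cartan : ∀ r < D.nroots, rho D k g (hv D k r) = hv D k (σ r)

include S in
theorem hv_simple (i : Fin D.rank) : hv D k (D.simple i) = Pi.single (Sum.inl i) 1 := by
  obtain ⟨-, h1⟩ := S.sim i.val i.2
  ext j
  rcases j with j | u
  · show ((cor D (D.simple i) j.val : ℤ) : k) = _
    rw [h1 j.val j.2]
    by_cases h : j = i
    · subst h; simp
    · rw [if_neg (fun h' => h (Fin.ext h')), Pi.single_eq_of_ne (by simpa using h), Int.cast_zero]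
  · show (0 : k) = _
    rw [Pi.single_eq_of_ne (by simp)]

include S in
theorem expand (v : D.Idx → k) : v = ∑ i : Fin D.rank, v (Sum.inl i) • hv D k (D.simple i) +
    ∑ u : Fin D.nroots, v (Sum.inr u) • ex D k u.val := by
  have h1 : v = ∑ j : D.Idx, v j • (Pi.single j (1 : k) : D.Idx → k) := by
    ext j
    simp [Finset.sum_apply, Pi.single_apply]
  conv_lhs => rw [h1]
  rw [Fintype.sum_sum_type]
  congr 1
  · exact Finset.sum_congr rfl fun i _ => by rw [hv_simple S]
  · exact Finset.sum_congr rfl fun u _ => by rw [← ev_eq u.2]; rfl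

section Act

variable {g : ↥(D.group k)} {σ : ℕ → ℕ} {c : ℕ → k} (A : Act g σ c)

include S A in
theorem Act.apply (v : D.Idx → k) : rho D k g v = ∑ i : Fin D.rank, v (Sum.inl i) • hv D k (σ (D.simple i)) +
    ∑ u : Fin D.nroots, (v (Sum.inr u) * c u.val) • ex D k (σ u.val) := by
  conv_lhs => rw [expand S v]
  rw [map_add, map_sum, map_sum]
  congr 1
  · refine Finset.sum_congr rfl fun i _ => ?_
    rw [map_smul, A.cartan _ (S.sim i.val i.2).1]
  · refine Finset.sum_congr rfl fun u _ => ?_
    rw [map_smul, A.root _ u.2, smul_smul]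

include S A in
theorem Act.apply_inl (v : D.Idx → k) (i : Fin D.rank) :
    rho D k g v (Sum.inl i) = ∑ j : Fin D.rank, v (Sum.inl j) * ((cor D (σ (D.simple j)) i.val : ℤ) : k) := by
  rw [A.apply S, Pi.add_apply, Finset.sum_apply, Finset.sum_apply]
  have h1 : ∑ u : Fin D.nroots, ((v (Sum.inr u) * c u.val) • ex D k (σ u.val)) (Sum.inl i) = 0 :=
    Finset.sum_eq_zero fun u _ => by rw [Pi.smul_apply]; exact mul_zero _
  rw [h1, add_zero]
  rfl

include S A in
theorem Act.apply_inr (v : D.Idx → k) {r : ℕ} (hr : r < D.nroots) :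
    rho D k g v (Sum.inr ⟨σ r, A.lt r hr⟩) = c r * v (Sum.inr ⟨r, hr⟩) := by
  rw [A.apply S, Pi.add_apply, Finset.sum_apply, Finset.sum_apply]
  have h1 : ∑ i : Fin D.rank, (v (Sum.inl i) • hv D k (σ (D.simple i))) (Sum.inr ⟨σ r, A.lt r hr⟩) = 0 :=
    Finset.sum_eq_zero fun u _ => by rw [Pi.smul_apply]; exact mul_zero _
  rw [h1, zero_add, Finset.sum_eq_single ⟨r, hr⟩]
  · rw [Pi.smul_apply, smul_eq_mul]
    show v (Sum.inr ⟨r, hr⟩) * c r * (if σ r = σ r then 1 else 0) = _
    rw [if_pos rfl]
    ring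
  · intro u _ hu
    rw [Pi.smul_apply, smul_eq_mul]
    show v (Sum.inr u) * c u.val * (if σ r = σ u.val then 1 else 0) = _
    rw [if_neg, mul_zero]
    intro h
    apply hu
    have h3 := congrArg σ h
    rw [A.inv r hr, A.inv u.val u.2] at h3
    exact Fin.ext h3.symm
  · intro h
    exact absurd (Finset.mem_univ _) h

open Classical in
include S A in
/-- **the dimension of the `(-1)`-eigenspace** -/
theorem Act.finrank_ker (h2 : (2 : k) ≠ 0) (J : Finset (Fin D.rank))
    (h1 : ∀ i ∉ J, ∀ j : Fin D.rank, cor D (σ (D.simple j)) i.val = if i = j then 1 else 0)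
    (h3 : ∀ j ∈ J, ∀ i : Fin D.rank, cor D (σ (D.simple j)) i.val = if i = j then -1 else 0) :
    finrank k ↥(LinearMap.ker (rho D k g + 1)) =
      J.card + (Finset.univ.filter fun u : Fin D.nroots =>
        u.val < σ u.val ∨ (σ u.val = u.val ∧ c u.val = -1)).card := by
  set R : Finset (Fin D.nroots) := Finset.univ.filter fun u : Fin D.nroots =>
        u.val < σ u.val ∨ (σ u.val = u.val ∧ c u.val = -1) with hR
  have hmR : ∀ u : Fin D.nroots, u ∈ R ↔ u.val < σ u.val ∨ (σ u.val = u.val ∧ c u.val = -1) := by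
    intro u
    rw [hR, Finset.mem_filter]
    exact ⟨fun h => h.2, fun h => ⟨Finset.mem_univ _, h⟩⟩
  have hneg : ∀ x : k, x = -x → x = 0 := by
    intro x hx
    have h4 : (2 : k) * x = 0 := by linear_combination hx
    exact (mul_eq_zero.1 h4).resolve_left h2
  rw [← Finset.card_disjSum]
  refine finrank_ker_eq (rho D k g) (J.disjSum R) ?_ ?_
  · intro v hv hT
    have hTl : ∀ i ∈ J, v (Sum.inl i) = 0 := fun i hi => hT _ (Finset.inl_mem_disjSum.2 hi)
    have hTr : ∀ u ∈ R, v (Sum.inr u) = 0 := fun u hu => hT _ (Finset.inr_mem_disjSum.2 hu)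
    ext j
    rcases j with i | u
    · show v (Sum.inl i) = 0
      by_cases hi : i ∈ J
      · exact hTl i hi
      · have h4 := congrFun hv (Sum.inl i)
        rw [A.apply_inl S, Finset.sum_eq_single i] at h4
        · rw [h1 i hi i, if_pos rfl, Int.cast_one, mul_one] at h4
          exact hneg _ h4
        · intro j _ hj
          rw [h1 i hi j, if_neg (fun h => hj h.symm), Int.cast_zero, mul_zero]
        · intro h
          exact absurd (Finset.mem_univ _) h
    · show v (Sum.inr u) = 0
      by_cases hu : u ∈ R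
      · exact hTr u hu
      · rw [hmR, not_or, not_lt] at hu
        rcases lt_or_eq_of_le hu.1 with h4 | h4
        · have h5 : v (Sum.inr ⟨σ u.val, A.lt _ u.2⟩) = 0 := by
            refine hTr _ ((hmR _).2 (Or.inl ?_))
            show σ u.val < σ (σ u.val)
            rw [A.inv _ u.2]
            exact h4
          have h6 := A.apply_inr S v (A.lt _ u.2)
          rw [h5, mul_zero, hv] at h6
          have h7 : (⟨σ (σ u.val), A.lt _ (A.lt _ u.2)⟩ : Fin D.nroots) = u := Fin.ext (A.inv _ u.2)
          rw [h7] at h6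
          exact neg_eq_zero.1 h6
        · have h5 : c u.val ≠ -1 := fun h => hu.2 ⟨h4, h⟩
          have h6 := A.apply_inr S v u.2
          have h7 : (⟨σ u.val, A.lt _ u.2⟩ : Fin D.nroots) = u := Fin.ext h4
          rw [h7, hv] at h6
          have h8 : (c u.val + 1) * v (Sum.inr u) = 0 := by
            have h9 : -v (Sum.inr u) = c u.val * v (Sum.inr u) := h6
            linear_combination -h9
          rcases mul_eq_zero.1 h8 with h9 | h9
          · exact absurd (eq_neg_of_add_eq_zero_left h9) h5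
          · exact h9
  · rintro (j | u) hs
    · rw [Finset.inl_mem_disjSum] at hs
      refine ⟨hv D k (D.simple j), ?_, ?_, ?_⟩
      · rw [A.cartan _ (S.sim j.val j.2).1]
        ext i
        rcases i with i | u
        · show ((cor D (σ (D.simple j)) i.val : ℤ) : k) = -((cor D (D.simple j) i.val : ℤ) : k)
          rw [h3 j hs i, (S.sim j.val j.2).2 i.val i.2]
          by_cases h : i = j
          · rw [if_pos h, if_pos (congrArg Fin.val h)]; simp
          · rw [if_neg h, if_neg (fun h' => h (Fin.ext h'))]; simp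
        · exact neg_zero.symm
      · rw [hv_simple S, Pi.single_eq_same]
      · intro s' _ hne
        rw [hv_simple S, Pi.single_eq_of_ne hne]
    · rw [Finset.inr_mem_disjSum, hmR] at hs
      rcases hs with hs | ⟨hs, hc⟩
      · refine ⟨ex D k u.val - c u.val • ex D k (σ u.val), ?_, ?_, ?_⟩
        · rw [map_sub, map_smul, A.root _ u.2, A.root _ (A.lt _ u.2), smul_smul, A.cc _ u.2, one_smul, A.inv _ u.2]
          abel
        · rw [Pi.sub_apply, Pi.smul_apply]
          show (if u.val = u.val then (1 : k) else 0) - c u.val * (if u.val = σ u.val then 1 else 0) = 1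
          rw [if_pos rfl, if_neg hs.ne, mul_zero, sub_zero]
        · rintro (j | u') hs' hne
          · rw [Pi.sub_apply, Pi.smul_apply]
            show (0 : k) - c u.val * 0 = 0
            rw [mul_zero, sub_zero]
          · rw [Finset.inr_mem_disjSum, hmR] at hs'
            rw [Pi.sub_apply, Pi.smul_apply]
            show (if u'.val = u.val then (1 : k) else 0) - c u.val * (if u'.val = σ u.val then 1 else 0) = 0
            rw [if_neg (fun h => hne (by rw [Fin.ext h])), if_neg, mul_zero, sub_zero]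
            intro h
            rw [h, A.inv _ u.2] at hs'
            rcases hs' with hs' | ⟨hs', -⟩ <;> omega
      · refine ⟨ex D k u.val, ?_, ?_, ?_⟩
        · rw [A.root _ u.2, hs, hc, neg_one_smul]
        · show (if u.val = u.val then (1 : k) else 0) = 1
          rw [if_pos rfl]
        · rintro (j | u') hs' hne
          · rfl
          · show (if u'.val = u.val then (1 : k) else 0) = 0
            rw [if_neg (fun h => hne (by rw [Fin.ext h]))]

end Act

end Cfsg.Agent.H553.KKL
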