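import Cfsg.Agent.H971.RV.FrOKE7

/-!
# S4546: elements permuting the root subgroups, on the adjoint module (helper553)

* `act_root` : if `g x_r(1) g⁻¹ = x_s(a)` then `g e_r = a e_s` (simply laced, `2 ≠ 0`);
* `act_cartan` : then `g h_r = h_s`, and `a b = 1` for `g e_{-r} = b e_{-s}`;
* `finrank_ker` : the dimension of the `(-1)`-eigenspace.
-/

set_option autoImplicit false
set_option linter.unusedSectionVars false

namespace Cfsg.Agent.H553.KKL

open CoxeterSystem Cfsg Cfsg.Lie Cfsg.Lie.ChevalleyDatum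
open Cfsg.Agent.ChevalleyStructure Cfsg.Agent.ChevalleyStructure.Elts Cfsg.Agent.ChevalleyStructure.CoxeterGeom
  Cfsg.Agent.ChevalleyStructure.CoxeterGeomTypes Cfsg.Agent.ChevalleyStructure.NPerm
open Cfsg.Agent.ChevalleyStructure.LieAbs Cfsg.Agent.ChevalleyStructure.Ring Cfsg.Agent.ChevalleyStructure.JacMain
  Cfsg.Agent.ChevalleyStructure.LieAut Cfsg.Agent.ChevalleyStructure.JacAll Cfsg.Agent.ChevalleyStructure.Columns
  Cfsg.Agent.ChevalleyStructure.Additive
open Cfsg.Agent.Tits.Roots Cfsg.Agent.Nodes.BNOf Cfsg.Agent.Nodes.RGDChev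
open Cfsg.Agent.H167.EX Cfsg.Agent.H512.LinFour.IdealF Cfsg.Agent.H971.RV
open Module Matrix

universe u

variable {D : ChevalleyDatum} {k : Type u} [Field k]

/-- simply laced tables -/
structure SLac (D : ChevalleyDatum) : Prop extends Lac D where
  one : ∀ r < D.nroots, ∀ e ∈ row D r, e.2.toList.length ≤ 1
  neg : ∀ r < D.nroots, D.neg r < D.nroots ∧ D.neg r ≠ r ∧ D.neg (D.neg r) = r

theorem slacE7 : SLac chevE7 := ⟨lacE7, by decide +kernel, by decide +kernel⟩

variable (S : SLac D)

include S in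
theorem chain_two (r : ℕ) (hr : r < D.nroots) (s u : ℕ) :
    ((D.chainCoeff r s u).map fun km : ℕ × ℤ => if km.1 = 2 then km.2 else 0).sum = 0 := by
  apply List.sum_eq_zero
  intro x hx
  obtain ⟨km, hkm, rfl⟩ := List.mem_map.1 hx
  rw [if_neg]
  simp only [ChevalleyDatum.chainCoeff, List.mem_flatMap, List.mem_map] at hkm
  obtain ⟨e, he, q, hq, rfl⟩ := hkm
  have h1 := S.one r hr e (List.mem_filter.1 he).1
  have h2 := List.snd_lt_of_mem_zipIdx (List.mem_filter.1 hq).1
  simp only at h2 ⊢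
  omega

include S in
theorem coefE_two_mulVec {r : ℕ} (hr : r < D.nroots) (hn : D.neg r < D.nroots) (v : D.Idx → k) :
    ((coefE D r 2).map (Int.castRingHom k)) *ᵥ v = (-v (Sum.inr ⟨D.neg r, hn⟩)) • ev k hr := by
  obtain ⟨-, hne, -⟩ := S.neg r hr
  have key : ∀ i j : D.Idx, coefE D r 2 i j =
      if i = Sum.inr ⟨r, hr⟩ ∧ j = Sum.inr ⟨D.neg r, hn⟩ then -1 else 0 := by
    intro row col
    rw [coefE_entry D r 2 hr]
    rcases row with i | u <;> rcases col with j | s
    · simp
    · have e0 : ¬((Sum.inl i : D.Idx) = Sum.inr ⟨r, hr⟩ ∧ (Sum.inr s : D.Idx) = Sum.inr ⟨D.neg r, hn⟩) :=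
        fun h => by cases h.1
      rw [if_neg e0]
      simp only
      split_ifs <;> first | rfl | omega
    · simp
    · simp only [chain_two S r hr]
      have h1 : D.negIdx.getD r 0 = D.neg r := rfl
      rw [h1]
      by_cases h3 : s.val = r
      · rw [if_pos h3, if_neg, if_neg]
        · rintro ⟨-, h4⟩
          have h5 := congrArg Fin.val (Sum.inr.inj h4)
          simp only at h5
          omega
        · simp
      · rw [if_neg h3]
        by_cases h4 : s.val = D.neg r
        · rw [if_pos h4]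
          by_cases h5 : u = s
          · rw [if_pos h5, if_neg (by simp), if_neg]
            rintro ⟨h6, -⟩
            have h7 := congrArg Fin.val (Sum.inr.inj h6)
            rw [h5] at h7
            exact h3 h7
          · rw [if_neg h5]
            by_cases h6 : u.val = r
            · have e1 : (Sum.inr u : D.Idx) = Sum.inr ⟨r, hr⟩ ∧ (Sum.inr s : D.Idx) = Sum.inr ⟨D.neg r, hn⟩ :=
                ⟨congrArg Sum.inr (Fin.ext h6), congrArg Sum.inr (Fin.ext h4)⟩
              rw [if_pos e1, if_pos]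
              exact ⟨trivial, h6⟩
            · rw [if_neg (fun h => h6 h.2), if_neg]
              rintro ⟨h7, -⟩
              exact h6 (congrArg Fin.val (Sum.inr.inj h7))
        · rw [if_neg h4, if_neg (by simp), if_neg]
          · simp
          · rintro ⟨-, h7⟩
            exact h4 (congrArg Fin.val (Sum.inr.inj h7))
  ext i
  rw [Matrix.mulVec, dotProduct, Finset.sum_eq_single (Sum.inr ⟨D.neg r, hn⟩)]
  · rw [Matrix.map_apply, key, Pi.smul_apply, smul_eq_mul, ev]
    by_cases h : i = Sum.inr ⟨r, hr⟩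
    · subst h
      simp
    · rw [if_neg (fun h' => h h'.1), Pi.single_eq_of_ne h]
      simp
  · intro j _ hj
    rw [Matrix.map_apply, key, if_neg (fun h => hj h.2)]
    simp
  · intro h
    exact absurd (Finset.mem_univ _) h

include S in
/-- **root vectors** -/
theorem act_root (h2 : (2 : k) ≠ 0) {r s : ℕ} (hr : r < D.nroots) (hs : s < D.nroots) {g : ↥(D.group k)} {a : k}
    (h : (g : GL D.Idx k) * xG S.inList r 1 = xG S.inList s a * (g : GL D.Idx k)) :
    rho D k g (ev k hr) = a • ev k hs := by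
  have L := S.toLac
  obtain ⟨hnr, hner, -⟩ := S.neg r hr
  obtain ⟨hns, hnes, -⟩ := S.neg s hs
  have h' : (g : GL D.Idx k) * xG S.inList r (-1) = xG S.inList s (-a) * (g : GL D.Idx k) := by
    rw [← xG_inv, ← xG_inv, eq_inv_mul_iff_mul_eq, ← mul_assoc, mul_inv_eq_iff_eq_mul, h]
  set C := ((g : GL D.Idx k) : Matrix D.Idx D.Idx k) with hC
  have e1 : C * D.x k r 1 = D.x k s a * C := congrArg (fun y : GL D.Idx k => (y : Matrix D.Idx D.Idx k)) h
  have e2 : C * D.x k r (-1) = D.x k s (-a) * C := congrArg (fun y : GL D.Idx k => (y : Matrix D.Idx D.Idx k)) h'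
  rw [x_eq_three L hr, x_eq_three L hs] at e1 e2
  set Er := (coefE D r 2).map (Int.castRingHom k) with hEr
  set Es := (coefE D s 2).map (Int.castRingHom k) with hEs
  have f1 : C * adK D k r = a • (adK D k s * C) := by
    have h4 : C * (1 + (1 : k) • adK D k r + (1 : k) ^ 2 • Er) - C * (1 + (-1 : k) • adK D k r + (-1 : k) ^ 2 • Er) =
        (1 + a • adK D k s + a ^ 2 • Es) * C - (1 + (-a) • adK D k s + (-a) ^ 2 • Es) * C := by rw [e1, e2]
    have h5 : (2 : k) • (C * adK D k r) = (2 : k) • (a • (adK D k s * C)) := by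
      have l1 : C * (1 + (1 : k) • adK D k r + (1 : k) ^ 2 • Er) - C * (1 + (-1 : k) • adK D k r + (-1 : k) ^ 2 • Er) =
          (2 : k) • (C * adK D k r) := by
        rw [← mul_sub, show ((-1 : k)) ^ 2 = 1 by ring, show ((1 : k)) ^ 2 = 1 by ring, two_smul, ← mul_add]
        congr 1
        simp only [one_smul, neg_smul]
        abel
      have l2 : (1 + a • adK D k s + a ^ 2 • Es) * C - (1 + (-a) • adK D k s + (-a) ^ 2 • Es) * C =
          (2 : k) • (a • (adK D k s * C)) := by
        rw [← sub_mul, show ((-a)) ^ 2 = a ^ 2 by ring, two_smul, ← smul_mul_assoc, ← add_mul]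
        congr 1
        simp only [neg_smul]
        abel
      rw [← l1, ← l2, h4]
    have h6 := congrArg (fun X => (2 : k)⁻¹ • X) h5
    simp only [smul_smul _ _ (C * adK D k r), smul_smul (2 : k)⁻¹ 2, inv_mul_cancel₀ h2, one_smul] at h6
    exact h6
  have f2 : C * Er = a ^ 2 • (Es * C) := by
    have h4 : C * (1 + (1 : k) • adK D k r + (1 : k) ^ 2 • Er) + C * (1 + (-1 : k) • adK D k r + (-1 : k) ^ 2 • Er) =
        (1 + a • adK D k s + a ^ 2 • Es) * C + (1 + (-a) • adK D k s + (-a) ^ 2 • Es) * C := by rw [e1, e2]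
    have h5 : (2 : k) • (C * Er) = (2 : k) • (a ^ 2 • (Es * C)) := by
      have l1 : C * (1 + (1 : k) • adK D k r + (1 : k) ^ 2 • Er) + C * (1 + (-1 : k) • adK D k r + (-1 : k) ^ 2 • Er) =
          (2 : k) • C + (2 : k) • (C * Er) := by
        rw [← mul_add, show ((-1 : k)) ^ 2 = 1 by ring, show ((1 : k)) ^ 2 = 1 by ring, two_smul, two_smul]
        simp only [one_smul, neg_smul, mul_add, mul_neg, mul_one]
        abel
      have l2 : (1 + a • adK D k s + a ^ 2 • Es) * C + (1 + (-a) • adK D k s + (-a) ^ 2 • Es) * C =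
          (2 : k) • C + (2 : k) • (a ^ 2 • (Es * C)) := by
        rw [← add_mul, show ((-a)) ^ 2 = a ^ 2 by ring, two_smul, two_smul]
        simp only [neg_smul, add_mul, neg_mul, one_mul, smul_mul_assoc]
        abel
      rw [l1, l2] at h4
      exact add_left_cancel h4
    have h6 := congrArg (fun X => (2 : k)⁻¹ • X) h5
    simp only [smul_smul _ _ (C * Er), smul_smul (2 : k)⁻¹ 2, inv_mul_cancel₀ h2, one_smul] at h6
    exact h6
  -- `C e_r` is a multiple of `e_s`
  obtain ⟨m, hm⟩ : ∃ m : k, C *ᵥ ev k hr = m • ev k hs := by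
    have h3 : (C * Er) *ᵥ ev k hnr = (a ^ 2 • (Es * C)) *ᵥ ev k hnr := by rw [f2]
    rw [← Matrix.mulVec_mulVec, Matrix.smul_mulVec, ← Matrix.mulVec_mulVec, coefE_two_mulVec S hr hnr,
      coefE_two_mulVec S hs hns] at h3
    have h4 : ev k hnr (Sum.inr ⟨D.neg r, hnr⟩) = 1 := Pi.single_eq_same _ _
    rw [h4, neg_smul, one_smul, Matrix.mulVec_neg, smul_smul] at h3
    rw [neg_eq_iff_eq_neg, ← neg_smul] at h3
    exact ⟨_, h3⟩
  have h4 := group_mul_adv D S.inList k g.1 g.2 (ev k hr)
  rw [← hC, hm, adv_smul] at h4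
  have h5 : ∀ {t : ℕ} (ht : t < D.nroots), adv (adR D k) (ev k ht) = adK D k t := by
    intro t ht
    rw [ev, adv_single_one]; rfl
  rw [h5 hr, h5 hs, f1, smul_mul_assoc] at h4
  have h6 : a • adK D k s = m • adK D k s := by
    have h7 := congrArg (fun X => X * ((g⁻¹ : ↥(D.group k)) : GL D.Idx k).1) h4
    simp only [smul_mul_assoc, mul_assoc] at h7
    have h8 : C * ((g⁻¹ : ↥(D.group k)) : GL D.Idx k).1 = 1 := by
      rw [hC]
      show ((g : GL D.Idx k) : Matrix D.Idx D.Idx k) * (((g : GL D.Idx k)⁻¹ : GL D.Idx k) : Matrix D.Idx D.Idx k) = 1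
      rw [← Units.val_mul, mul_inv_cancel, Units.val_one]
    rw [h8, mul_one] at h7
    exact h7
  have h7 : (a - m) • adK D k s = 0 := by rw [sub_smul, h6, sub_self]
  rcases smul_eq_zero.1 h7 with h8 | h8
  · rw [rho_apply, ← hC, hm, sub_eq_zero.1 h8]
  · exact absurd h8 (adK_ne_zero L h2 hs)

end Cfsg.Agent.H553.KKL
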