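import Cfsg.Agent.H553.KKL.AdjDim
import Cfsg.Agent.H557.LrE7

/-!
# S4546: involutions of `E₇(q)` on the adjoint module (helper553)

* `dim_sgn` : the `(-1)`-eigenspace of a sign element of the torus: the number of inverted roots;
* `dim_nontoral` : the `(-1)`-eigenspace of a nontoral involution: `2` modulo `4`.
-/

set_option autoImplicit false
set_option linter.unusedSectionVars false

namespace Cfsg.Agent.H553.KKL

open CoxeterSystem Cfsg Cfsg.Lie Cfsg.Lie.ChevalleyDatum
open Cfsg.Agent.ChevalleyStructure Cfsg.Agent.ChevalleyStructure.Elts Cfsg.Agent.ChevalleyStructure.CoxeterGeom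
  Cfsg.Agent.ChevalleyStructure.CoxeterGeomTypes Cfsg.Agent.ChevalleyStructure.NPerm
open Cfsg.Agent.ChevalleyStructure.LieAbs Cfsg.Agent.ChevalleyStructure.Ring Cfsg.Agent.ChevalleyStructure.JacMain
  Cfsg.Agent.ChevalleyStructure.LieAut Cfsg.Agent.ChevalleyStructure.JacAll Cfsg.Agent.ChevalleyStructure.Columns
  Cfsg.Agent.ChevalleyStructure.Additive
open Cfsg.Agent.Tits.Roots Cfsg.Agent.Nodes.BNOf Cfsg.Agent.Nodes.RGDChev Cfsg.Agent.Nodes.Reps
open Cfsg.Agent.KFacts.RgdChevCoord (TT XX)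
open Cfsg.Agent.H167.EX Cfsg.Agent.H512.LinFour.IdealF Cfsg.Agent.H971.RV
open Cfsg.Agent.H557.LrSgn Cfsg.Agent.H557.LrOrb
open Cfsg.Agent.H974.Exc (th7)
open Cfsg.Agent.UGT.U2.FOne (isType_E7)
open Module Matrix

universe u

section General

variable {D : ChevalleyDatum} {k : Type} [Field k] (S : SLac D)

include S in
/-- the scalars of an involution permuting the root subgroups -/
theorem exists_act (hT : Two D) (h2 : (2 : k) ≠ 0) {t : ↥(D.group k)} (htt : t * t = 1) {σ : ℕ → ℕ}
    (hlt : ∀ r < D.nroots, σ r < D.nroots) (hinv : ∀ r < D.nroots, σ (σ r) = r)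
    (hneg : ∀ r < D.nroots, σ (D.neg r) = D.neg (σ r))
    (h : ∀ r < D.nroots, ∃ a : k, (t : GL D.Idx k) * xG S.inList r 1 = xG S.inList (σ r) a * (t : GL D.Idx k)) :
    ∃ c : ℕ → k, Act t σ c ∧
      (∀ r < D.nroots, (t : GL D.Idx k) * xG S.inList r 1 = xG S.inList (σ r) (c r) * (t : GL D.Idx k)) ∧
      ∀ r < D.nroots, c r * c (D.neg r) = 1 := by
  choose! c hc using h
  have hroot : ∀ r < D.nroots, rho D k t (ex D k r) = c r • ex D k (σ r) := by
    intro r hr
    rw [← ev_eq hr, ← ev_eq (hlt r hr)]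
    exact act_root S h2 hr (hlt r hr) (hc r hr)
  have hcar : ∀ r < D.nroots, c r * c (D.neg r) = 1 ∧ rho D k t (hv D k r) = hv D k (σ r) := by
    intro r hr
    have hn := (S.neg r hr).1
    refine act_cartan S hT h2 hr (hlt r hr) (hroot r hr) ?_
    rw [hroot _ hn, hneg r hr]
  refine ⟨c, ⟨hlt, hinv, hroot, fun r hr => ?_, fun r hr => (hcar r hr).2⟩, hc, fun r hr => (hcar r hr).1⟩
  have h3 : (rho D k t * rho D k t) (ex D k r) = ex D k r := by
    rw [← map_mul, htt, map_one, Module.End.one_apply]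
  rw [Module.End.mul_apply, hroot r hr, map_smul, hroot _ (hlt r hr), hinv r hr, smul_smul] at h3
  have h4 := congrFun h3 (Sum.inr ⟨r, hr⟩)
  rw [Pi.smul_apply] at h4
  show c r * c (σ r) = 1
  have h5 : ex D k r (Sum.inr ⟨r, hr⟩) = 1 := if_pos rfl
  rw [h5, smul_eq_mul, mul_one] at h4
  exact h4

variable {l : ℕ} {M : CoxeterMatrix (Fin l)} (hp : IsType D l M) {W : Type*} [Group W] (cs : CoxeterSystem M W)

open Classical in
include S in
/-- **sign elements of the torus** -/
theorem dim_sgn (hT : Two D) (h2 : (2 : k) ≠ 0) {m : ℕ} {t : ↥(D.group k)} (htt : t * t = 1)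
    (ht : SgnEl cs hp.isCartan (TT D k) (XX D l k) (bits l m) t) :
    finrank k ↥(LinearMap.ker (rho D k t + 1)) =
      ((Finset.range D.nroots).filter fun r => bits l m (vec D l r) ≠ 0).card := by
  have key : ∀ r < D.nroots, (t : GL D.Idx k) * xG S.inList r 1 =
      xG S.inList r (if bits l m (vec D l r) = 0 then 1 else -1) * (t : GL D.Idx k) := by
    intro r hr
    have hu : (⟨xG S.inList r 1, xG_mem_group S.inList r 1⟩ : ↥(D.group k)) ∈ XX D l k (vec D l r) :=
      (GenExc.Chev.mem_XX hp k hr).2 ⟨1, rfl⟩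
    by_cases h0 : bits l m (vec D l r) = 0
    · rw [if_pos h0]
      exact congrArg Subtype.val (ht.fix _ (isRoot_vec hp cs hr) h0 _ hu)
    · rw [if_neg h0]
      have h3 := congrArg Subtype.val (ht.inv _ (isRoot_vec hp cs hr) h0 _ hu)
      have h4 : (t : GL D.Idx k) * xG S.inList r 1 * (t : GL D.Idx k)⁻¹ = (xG S.inList r 1)⁻¹ := h3
      rw [xG_inv] at h4
      exact mul_inv_eq_iff_eq_mul.1 h4
  obtain ⟨c, A, hc, -⟩ := exists_act S hT h2 htt (σ := id) (fun r hr => hr) (fun r hr => rfl) (fun r hr => rfl)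
    (fun r hr => ⟨_, key r hr⟩)
  have hcr : ∀ r < D.nroots, c r = if bits l m (vec D l r) = 0 then 1 else -1 := by
    intro r hr
    have h3 := (hc r hr).symm.trans (key r hr)
    exact xG_injective S.inList hr (mul_right_cancel h3)
  have h1 : ∀ i ∉ (∅ : Finset (Fin D.rank)), ∀ j : Fin D.rank,
      cor D (id (D.simple j)) i.val = if i = j then 1 else 0 := by
    intro i _ j
    rw [id, (S.sim j.val j.2).2 i.val i.2]
    exact if_congr ⟨fun h => Fin.ext h, fun h => congrArg Fin.val h⟩ rfl rfl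
  rw [A.finrank_ker S h2 ∅ h1 (fun j hj => absurd hj (Finset.notMem_empty j)), Finset.card_empty, zero_add]
  have hne : (-1 : k) ≠ 1 := by
    intro h
    apply h2
    linear_combination -h
  rw [Finset.card_filter, Finset.card_filter, Finset.sum_range]
  refine Finset.sum_congr rfl fun u _ => ?_
  refine if_congr ?_ rfl rfl
  rw [hcr _ u.2]
  constructor
  · rintro (h | ⟨-, h⟩)
    · exact absurd h (lt_irrefl _)
    · intro h0
      rw [if_pos h0] at h
      exact hne h.symm
  · intro h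
    exact Or.inr ⟨rfl, if_neg h⟩

end General

/-! ### tables for `E₇` -/

/-- the permutation `th7` of the roots -/
def sgL : List ℕ := [0, 1, 2, 8, 7, 10, 9, 4, 3, 6, 5, 11, 15, 14, 13, 12, 16, 17, 21, 20, 19, 18, 22, 28, 27, 30, 29, 24, 23, 26,
  25, 31, 32, 33, 37, 36, 35, 34, 38, 49, 48, 51, 50, 54, 53, 56, 55, 78, 40, 39, 42, 41, 52, 44, 43, 46, 45,
  61, 60, 66, 58, 57, 63, 62, 68, 67, 59, 65, 64, 80, 79, 82, 81, 73, 84, 83, 86, 85, 47, 70, 69, 72, 71, 75,
  74, 77, 76, 87, 91, 90, 89, 88, 92, 93, 94, 100, 99, 102, 101, 96, 95, 98, 97, 103, 107, 106, 105, 104, 108,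
  109, 113, 112, 111, 110, 114, 120, 119, 122, 121, 116, 115, 118, 117, 123, 124, 125]

/-- the permutation `th7` of the roots -/
def sg (r : ℕ) : ℕ := sgL.getD r 0

/-- the sums of fixed roots -/
def stp : List (ℕ × ℕ × ℕ) :=
  [(94, 73, 93), (103, 87, 93), (108, 92, 93), (109, 73, 103), (114, 73, 108), (123, 87, 108), (124, 73, 123),
    (125, 93, 124)]

/-- the parity of a fixed root -/
def pa (m : Fin 4 → Bool) (r : ℕ) : Bool :=
  decide (((bif m 3 then vec chevE7 7 r 0 else 0) + (bif m 2 then vec chevE7 7 r 6 else 0) +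
    (bif m 1 then vec chevE7 7 r 4 else 0) +
    (bif m 0 then vec chevE7 7 r 2 + vec chevE7 7 r 4 + vec chevE7 7 r 6 else 0)) % 2 ≠ 0)

set_option maxRecDepth 20000

theorem tab_sg : ∀ r < chevE7.nroots, sg r < chevE7.nroots ∧ sg (sg r) = r ∧ sg (chevE7.neg r) = chevE7.neg (sg r) ∧
    vec chevE7 7 (sg r) = th7 (vec chevE7 7 r) := by
  decide +kernel

theorem tab_J : ∀ i j : Fin 7, (i ∉ ({1, 4, 6} : Finset (Fin 7)) →
    cor chevE7 (sg (chevE7.simple j)) i.val = if i = j then 1 else 0) ∧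
    (j ∈ ({1, 4, 6} : Finset (Fin 7)) → cor chevE7 (sg (chevE7.simple j)) i.val = if i = j then -1 else 0) := by
  decide +kernel

theorem tab_stp : ∀ e ∈ stp, e.1 < chevE7.nroots ∧ e.2.1 < chevE7.nroots ∧ e.2.2 < chevE7.nroots ∧ sg e.1 = e.1 ∧
    sg e.2.1 = e.2.1 ∧ sg e.2.2 = e.2.2 ∧ e.2.2 ≠ e.2.1 ∧ e.2.2 ≠ chevE7.neg e.2.1 ∧
    ∃ c ∈ [(1 : ℤ), -1], ∀ u' ∈ List.range chevE7.nroots,
      ((chevE7.chainCoeff e.2.1 e.2.2 u').map fun km : ℕ × ℤ => if km.1 = 1 then km.2 else 0).sum =
        if u' = e.1 then c else 0 := by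
  decide +kernel

theorem tab_pa : ∀ m : Fin 4 → Bool, (∀ e ∈ stp, pa m e.1 = xor (pa m e.2.1) (pa m e.2.2)) ∧
    (∀ r ∈ List.range chevE7.nroots, pa m (chevE7.neg r) = pa m r) ∧
    pa m 73 = m 0 ∧ pa m 87 = m 1 ∧ pa m 92 = m 2 ∧ pa m 93 = m 3 := by
  decide +kernel

theorem tab_fix : ∀ r ∈ List.range chevE7.nroots, sg r = r →
    r ∈ [73, 87, 92, 93, 94, 103, 108, 109, 114, 123, 124, 125] ∨
      chevE7.neg r ∈ [73, 87, 92, 93, 94, 103, 108, 109, 114, 123, 124, 125] := by
  decide +kernel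

theorem tab_lt : (Finset.univ.filter fun u : Fin chevE7.nroots => u.val < sg u.val).card = 51 := by
  decide +kernel

theorem tab_cnt : ∀ m : Fin 4 → Bool,
    (Finset.univ.filter fun u : Fin chevE7.nroots => sg u.val = u.val ∧ pa m u.val = true).card % 4 = 0 := by
  decide +kernel

/-! ### nontoral involutions -/

section Nontoral

variable {k : Type} [Field k] {t : ↥(chevE7.group k)} {c : ℕ → k}

theorem pm (h : k) (h' : h * h = 1) : h = 1 ∨ h = -1 := mul_self_eq_one_iff.1 h'

/-- the sign given by a parity -/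
theorem sgn_mul {x y z : k} {a b e : Bool} (h : z = x * y) (h' : e = xor a b) (hx : x = bif a then -1 else 1)
    (hy : y = bif b then -1 else 1) : z = bif e then -1 else 1 := by
  subst h h' hx hy
  cases a <;> cases b <;> simp

theorem Act.fixed (A : Act t sg c) (hcn : ∀ r < chevE7.nroots, c r * c (chevE7.neg r) = 1) (h2 : (2 : k) ≠ 0) :
    ∃ m : Fin 4 → Bool, ∀ r < chevE7.nroots, sg r = r → c r = bif pa m r then -1 else 1 := by
  classical
  obtain ⟨m, hm⟩ : ∃ m : Fin 4 → Bool, m = fun i => decide (c ((![73, 87, 92, 93] : Fin 4 → ℕ) i) = -1) := ⟨_, rfl⟩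
  obtain ⟨p1, p2, p3, p4, p5, p6⟩ := tab_pa m
  have hbase : ∀ r < chevE7.nroots, sg r = r → ∀ i : Fin 4, pa m r = m i → (![73, 87, 92, 93] : Fin 4 → ℕ) i = r →
      c r = bif pa m r then -1 else 1 := by
    intro r hr hs i hi he
    have h3 := A.cc r hr
    rw [hs] at h3
    rw [hi, hm]
    simp only [he]
    rcases pm _ h3 with h4 | h4
    · rw [h4]
      have : ¬((1 : k) = -1) := by
        intro h
        apply h2
        linear_combination h
      simp [this]
    · rw [h4]; simp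
  have hstep : ∀ e ∈ stp, c e.2.1 = (bif pa m e.2.1 then -1 else 1) → c e.2.2 = (bif pa m e.2.2 then -1 else 1) →
      c e.1 = bif pa m e.1 then -1 else 1 := by
    intro e he h3 h4
    obtain ⟨q1, q2, q3, q4, q5, q6, q7, q8, κ, hκ, q9⟩ := tab_stp e he
    refine sgn_mul ?_ (p1 e he) h3 h4
    have hb := br_root (k := k) q2 q3 q7 q8 κ fun u' hu' => q9 u' (List.mem_range.2 hu')
    have h5 := congrArg (rho chevE7 k t) hb
    rw [rho_br slacE7.inList, A.root _ q2, A.root _ q3, q5, q6, br_smul_left, br_smul_right, hb, map_smul, A.root _ q1,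
      q4, smul_smul, smul_smul, smul_smul] at h5
    have h6 := congrFun h5 (Sum.inr ⟨e.1, q1⟩)
    have h7 : ex chevE7 k e.1 (Sum.inr ⟨e.1, q1⟩) = 1 := if_pos rfl
    rw [Pi.smul_apply, Pi.smul_apply, h7, smul_eq_mul, smul_eq_mul, mul_one, mul_one] at h6
    have hκ0 : (κ : k) ≠ 0 := by
      rcases List.mem_cons.1 hκ with rfl | hκ
      · simp
      · rw [List.mem_singleton] at hκ
        subst hκ
        simp
    have h8 : (κ : k) * (c e.1 - c e.2.1 * c e.2.2) = 0 := by linear_combination -h6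
    rcases mul_eq_zero.1 h8 with h9 | h9
    · exact absurd h9 hκ0
    · exact sub_eq_zero.1 h9
  have hst : ∀ {u a b : ℕ}, (u, a, b) ∈ stp → c a = (bif pa m a then -1 else 1) → c b = (bif pa m b then -1 else 1) →
      c u = bif pa m u then -1 else 1 := fun {u a b} h3 h4 h5 => hstep (u, a, b) h3 h4 h5
  have f73 := hbase 73 (by decide) (by decide) 0 p3 rfl
  have f87 := hbase 87 (by decide) (by decide) 1 p4 rfl
  have f92 := hbase 92 (by decide) (by decide) 2 p5 rfl
  have f93 := hbase 93 (by decide) (by decide) 3 p6 rfl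
  have f94 := hst (u := 94) (by decide) f73 f93
  have f103 := hst (u := 103) (by decide) f87 f93
  have f108 := hst (u := 108) (by decide) f92 f93
  have f109 := hst (u := 109) (by decide) f73 f103
  have f114 := hst (u := 114) (by decide) f73 f108
  have f123 := hst (u := 123) (by decide) f87 f108
  have f124 := hst (u := 124) (by decide) f73 f123
  have f125 := hst (u := 125) (by decide) f93 f124
  have hpos : ∀ r ∈ [73, 87, 92, 93, 94, 103, 108, 109, 114, 123, 124, 125], c r = bif pa m r then -1 else 1 := by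
    intro r hr
    simp only [List.mem_cons, List.not_mem_nil, or_false] at hr
    rcases hr with rfl | rfl | rfl | rfl | rfl | rfl | rfl | rfl | rfl | rfl | rfl | rfl <;> assumption
  refine ⟨m, fun r hr hs => ?_⟩
  rcases tab_fix r (List.mem_range.2 hr) hs with h3 | h3
  · exact hpos r h3
  · have h4 := hpos _ h3
    rw [p2 r (List.mem_range.2 hr)] at h4
    have h5 := hcn r hr
    rw [h4] at h5
    cases hpa : pa m r
    · rw [hpa] at h5
      simpa using h5
    · rw [hpa] at h5
      have h6 : c r * -1 = 1 := h5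
      show c r = -1
      linear_combination -h6

/-- **nontoral involutions**: the `(-1)`-eigenspace has dimension `2` modulo `4` -/
theorem dim_nontoral (h2 : (2 : k) ≠ 0) {W : Type*} [Group W] (cs : CoxeterSystem CoxeterMatrix.E₇ W) {w : W}
    (htt : t * t = 1) (hw : ∀ v, rep cs isType_E7.isCartan w v = th7 v)
    (hθ : ∀ c, IsRoot cs isType_E7.isCartan c →
      cj t (XX chevE7 7 k c) = XX chevE7 7 k (rep cs isType_E7.isCartan w c)) :
    finrank k ↥(LinearMap.ker (rho chevE7 k t + 1)) % 4 = 2 := by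
  classical
  have hIL := slacE7.inList
  have h1 : ∀ r < chevE7.nroots, ∃ a : k, (t : GL chevE7.Idx k) * xG slacE7.inList r 1 =
      xG slacE7.inList (sg r) a * (t : GL chevE7.Idx k) := by
    intro r hr
    obtain ⟨s1, -, -, s4⟩ := tab_sg r hr
    have hu : (⟨xG slacE7.inList r 1, xG_mem_group slacE7.inList r 1⟩ : ↥(chevE7.group k)) ∈
        XX chevE7 7 k (vec chevE7 7 r) := (GenExc.Chev.mem_XX isType_E7 k hr).2 ⟨1, rfl⟩
    have h3 := hθ _ (isRoot_vec isType_E7 cs hr)
    rw [hw, ← s4] at h3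
    have h4 : t * (⟨xG slacE7.inList r 1, xG_mem_group slacE7.inList r 1⟩ : ↥(chevE7.group k)) * t⁻¹ ∈
        XX chevE7 7 k (vec chevE7 7 (sg r)) := by
      rw [← h3, mem_cj]
      have : t⁻¹ * (t * (⟨xG slacE7.inList r 1, xG_mem_group slacE7.inList r 1⟩ : ↥(chevE7.group k)) * t⁻¹) * t =
        (⟨xG slacE7.inList r 1, xG_mem_group slacE7.inList r 1⟩ : ↥(chevE7.group k)) := by group
      rw [this]
      exact hu
    obtain ⟨a, ha⟩ := (GenExc.Chev.mem_XX isType_E7 k s1).1 h4
    refine ⟨a, ?_⟩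
    have h5 : (t : GL chevE7.Idx k) * xG slacE7.inList r 1 * (t : GL chevE7.Idx k)⁻¹ = xG slacE7.inList (sg r) a := ha
    exact mul_inv_eq_iff_eq_mul.1 h5
  obtain ⟨c, A, -, hcn⟩ := exists_act slacE7 twoE7 h2 htt (fun r hr => (tab_sg r hr).1) (fun r hr => (tab_sg r hr).2.1)
    (fun r hr => (tab_sg r hr).2.2.1) h1
  obtain ⟨m, hm⟩ := A.fixed hcn h2
  have hne : (1 : k) ≠ -1 := by
    intro h
    apply h2
    linear_combination h
  have e7 := A.finrank_ker slacE7 h2 ({1, 4, 6} : Finset (Fin 7)) (fun i hi j => (tab_J i j).1 hi)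
    (fun j hj i => (tab_J i j).2 hj)
  rw [e7]
  have e1 : (Finset.univ.filter fun u : Fin chevE7.nroots => u.val < sg u.val ∨ (sg u.val = u.val ∧ c u.val = -1)) =
      (Finset.univ.filter fun u : Fin chevE7.nroots => u.val < sg u.val) ∪
        (Finset.univ.filter fun u : Fin chevE7.nroots => sg u.val = u.val ∧ pa m u.val = true) := by
    ext u
    simp only [Finset.mem_filter, Finset.mem_univ, true_and, Finset.mem_union]
    constructor
    · rintro (h | ⟨h, h'⟩)
      · exact Or.inl h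
      · refine Or.inr ⟨h, ?_⟩
        rw [hm _ u.2 h] at h'
        cases hpa : pa m u.val
        · rw [hpa] at h'
          exact absurd h' hne
        · rfl
    · rintro (h | ⟨h, h'⟩)
      · exact Or.inl h
      · refine Or.inr ⟨h, ?_⟩
        rw [hm _ u.2 h, h']
        rfl
  have e2 : Disjoint (Finset.univ.filter fun u : Fin chevE7.nroots => u.val < sg u.val)
      (Finset.univ.filter fun u : Fin chevE7.nroots => sg u.val = u.val ∧ pa m u.val = true) := by
    rw [Finset.disjoint_left]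
    intro u h3 h4
    rw [Finset.mem_filter] at h3 h4
    have h5 := h3.2
    rw [h4.2.1] at h5
    exact lt_irrefl _ h5
  have e3 := tab_cnt m
  have e4 : (Finset.univ.filter fun u : Fin chevE7.nroots => u.val < sg u.val ∨ (sg u.val = u.val ∧ c u.val = -1)).card =
      51 + (Finset.univ.filter fun u : Fin chevE7.nroots => sg u.val = u.val ∧ pa m u.val = true).card := by
    rw [e1, Finset.card_union_of_disjoint e2, tab_lt]
  have e6 : ∀ x y z : ℕ, z = 3 → x = y → y % 4 = 3 → (z + x) % 4 = 2 := by omega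
  refine e6 _ _ _ (by decide) ?_ (by rw [Nat.add_mod, e3] : (51 + (Finset.univ.filter fun u : Fin chevE7.nroots =>
    sg u.val = u.val ∧ pa m u.val = true).card) % 4 = 3)
  rw [← e4]

end Nontoral

end Cfsg.Agent.H553.KKL
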